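import Mathlib
import Cfsg.Prelude.Def_CaseTheorems
import Cfsg.Prelude.Def_TwoFusion
import Cfsg.Prelude.Def_Classical
import Cfsg.Prelude.Def_Sz
import Cfsg.Agent.LieRecognition.PSUThreeSylow
import Cfsg.Agent.LieRecognition.SzMatrix
import Cfsg.Agent.S1163

/-!
# Sylow 2-subgroups of `PSU₃(2^n)` and `Sz(q)`: the invariants

`Shape S c q`: `|S| = c`, `|Z(S)| = q`, the elements of square one are exactly the elements of the
centre.
-/

set_option autoImplicit false

namespace Cfsg.Agent.TypeUSz.Inv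

open Cfsg.Agent.LieRecognition

/-- `|S| = c`, `|Z(S)| = q`, and `Z(S)` is the set of all elements with square one. -/
structure Shape (S : Type*) [Group S] (c q : ℕ) : Prop where
  card : Nat.card S = c
  card_center : Nat.card (Subgroup.center S) = q
  mem_center : ∀ x : S, x * x = 1 → x ∈ Subgroup.center S
  sq : ∀ x ∈ Subgroup.center S, x * x = 1

theorem Shape.congr {S T : Type*} [Group S] [Group T] {c q : ℕ} (e : S ≃* T)
    (h : Shape S c q) : Shape T c q where
  card := by rw [← Nat.card_congr e.toEquiv, h.card]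
  card_center := by
    rw [← h.card_center]
    exact (Nat.card_congr (Subgroup.centerCongr e).toEquiv).symm
  mem_center := by
    intro x hx
    have h1 : e.symm x * e.symm x = 1 := by rw [← map_mul, hx, map_one]
    have h2 := Subgroup.mem_center_iff.mp (h.mem_center _ h1)
    rw [Subgroup.mem_center_iff]
    intro g
    have h3 := h2 (e.symm g)
    rw [← map_mul, ← map_mul] at h3
    exact e.symm.injective h3
  sq := by
    intro x hx
    have h1 : e.symm x ∈ Subgroup.center S := by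
      rw [Subgroup.mem_center_iff]
      intro g
      apply e.injective
      rw [map_mul, map_mul, e.apply_symm_apply]
      exact Subgroup.mem_center_iff.mp hx (e g)
    have h2 := h.sq _ h1
    rw [← map_mul] at h2
    exact (MulEquiv.map_eq_one_iff e.symm).mp h2

theorem Shape.not_comm {S : Type*} [Group S] {c q : ℕ} (h : Shape S c q) (hcq : c ≠ q) :
    ¬ IsMulCommutative S := by
  intro hc
  apply hcq
  rw [← h.card, ← h.card_center]
  have : Subgroup.center S = ⊤ := by
    rw [eq_top_iff]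
    intro x _
    rw [Subgroup.mem_center_iff]
    intro g
    exact hc.is_comm.comm g x
  rw [this, Subgroup.card_top]

/-- The Sylow 2-subgroups of `PSU₃(2^n)`. -/
theorem shape_psu {F : Type*} [Field F] [Finite F] {n : ℕ} (hn : 1 ≤ n)
    (hF : Nat.card F = (2 ^ n) ^ 2) (S : Sylow 2 (Cfsg.PSU 3 F (2 ^ n))) :
    Shape (S : Subgroup (Cfsg.PSU 3 F (2 ^ n))) ((2 ^ n) ^ 3) (2 ^ n) := by
  obtain ⟨hchar, σ, hσ, hs, -, hP⟩ := PSUThreeSylow.exists_heis_equiv F hn hF
  obtain ⟨e⟩ := hP S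
  have hq : 1 < 2 ^ n := Nat.one_lt_two_pow (by omega)
  refine Shape.congr e ⟨HermHeis.card_heis hq hs hF, HermHeis.card_center hq hs hF, ?_, ?_⟩
  · intro x hx
    exact (HermHeis.mem_center_iff hq hs hF x).mpr ((HermHeis.mul_self_eq_one_iff x).mp hx)
  · intro x hx
    exact (HermHeis.mul_self_eq_one_iff x).mpr ((HermHeis.mem_center_iff hq hs hF x).mp hx)

section Sz

variable {F : Type*} [Field F] {θ : F →+* F} {e : ℕ}

theorem unip_sq (H : SzMatrix.Good F θ e) (a b : F) : H.u a b * H.u a b = 1 ↔ a = 0 := by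
  rw [H.u_mul]
  constructor
  · intro h
    rw [← H.u_zero] at h
    have h1 := (H.u_inj h).2
    have h2 : a * θ a = 0 := by
      have h3 : b + b = 0 := H.add_self b
      linear_combination h1 - h3
    rcases mul_eq_zero.mp h2 with h3 | h3
    · exact h3
    · exact (map_eq_zero θ).mp h3
  · intro h
    subst h
    rw [← H.u_zero]
    congr 1
    · rw [H.add_self]
    · rw [map_zero]
      simp [H.add_self]

theorem unip_comm (H : SzMatrix.Good F θ e) {c : F} (hc : θ c ≠ c) (a b : F)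
    (h1 : H.u a b * H.u 1 0 = H.u 1 0 * H.u a b) (h2 : H.u a b * H.u c 0 = H.u c 0 * H.u a b) :
    a = 0 := by
  rw [H.u_mul, H.u_mul] at h1 h2
  have h3 := (H.u_inj h1).2
  have h4 := (H.u_inj h2).2
  simp only [map_one, mul_one, one_mul, add_zero, zero_add] at h3 h4
  have h5 : a = θ a := add_left_cancel h3
  have h6 : a * θ c = c * θ a := add_left_cancel h4
  rw [← h5] at h6
  have h7 : a * (θ c - c) = 0 := by linear_combination h6
  rcases mul_eq_zero.mp h7 with h8 | h8
  · exact h8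
  · exact absurd (sub_eq_zero.mp h8) hc

theorem unip_comm_zero (H : SzMatrix.Good F θ e) (b c d : F) :
    H.u 0 b * H.u c d = H.u c d * H.u 0 b := by
  rw [H.u_mul, H.u_mul]
  congr 1
  · ring
  · rw [map_zero]
    ring

/-- The group of the elements `u a b`. -/
theorem shape_unip [Finite F] (H : SzMatrix.Good F θ e) {c : F} (hc : θ c ≠ c) :
    Shape H.unip (Nat.card F ^ 2) (Nat.card F) := by
  have hmem : ∀ x : H.unip, x ∈ Subgroup.center H.unip ↔ ∃ b : F, (x : ↥(Cfsg.Lie.Sz F e)) = H.u 0 b := by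
    intro x
    constructor
    · intro hx
      rw [Subgroup.mem_center_iff] at hx
      obtain ⟨a, b, hab⟩ := (H.mem_unip_iff _).mp x.2
      have h1 := congrArg Subtype.val (hx ⟨H.u 1 0, H.u_mem_unip 1 0⟩)
      have h2 := congrArg Subtype.val (hx ⟨H.u c 0, H.u_mem_unip c 0⟩)
      simp only [Subgroup.coe_mul, hab] at h1 h2
      have h3 := unip_comm H hc a b h1.symm h2.symm
      exact ⟨b, by rw [hab, h3]⟩
    · rintro ⟨b, hb⟩
      rw [Subgroup.mem_center_iff]
      intro g
      obtain ⟨c', d', hcd⟩ := (H.mem_unip_iff _).mp g.2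
      apply Subtype.ext
      rw [Subgroup.coe_mul, Subgroup.coe_mul, hb, hcd]
      exact (unip_comm_zero H b c' d').symm
  refine ⟨H.card_unip, ?_, ?_, ?_⟩
  · refine (Nat.card_congr (Equiv.ofBijective
      (fun b : F => (⟨⟨H.u 0 b, H.u_mem_unip 0 b⟩, (hmem _).mpr ⟨b, rfl⟩⟩ :
        Subgroup.center H.unip)) ⟨?_, ?_⟩)).symm
    · intro b b' h
      exact (H.u_inj (congrArg Subtype.val (congrArg Subtype.val h))).2
    · intro x
      obtain ⟨b, hb⟩ := (hmem x.1).mp x.2
      exact ⟨b, Subtype.ext (Subtype.ext hb.symm)⟩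
  · intro x hx
    obtain ⟨a, b, hab⟩ := (H.mem_unip_iff _).mp x.2
    have h1 := congrArg Subtype.val hx
    rw [Subgroup.coe_mul, Subgroup.coe_one, hab, unip_sq] at h1
    exact (hmem x).mpr ⟨b, by rw [hab, h1]⟩
  · intro x hx
    obtain ⟨b, hb⟩ := (hmem x).mp hx
    apply Subtype.ext
    rw [Subgroup.coe_mul, Subgroup.coe_one, hb]
    exact (unip_sq H 0 b).mpr rfl

end Sz

/-- `θ` is not the identity. -/
theorem exists_theta_ne {F : Type*} [Field F] [Fintype F] {m : ℕ} (hm : 1 ≤ m)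
    (hF : Fintype.card F = 2 ^ (2 * m + 1)) : ∃ c : F, SzMatrix.theta hF c ≠ c := by
  by_contra hcon
  push Not at hcon
  have h0 : ∀ x : F, x = x ^ 2 := by
    intro x
    have h1 := (SzMatrix.good hF).sq x
    rw [hcon, hcon] at h1
    exact h1
  have h2 : ∀ x : F, x = 0 ∨ x = 1 := by
    intro x
    have h3 : x * (x - 1) = 0 := by linear_combination -(h0 x)
    rcases mul_eq_zero.mp h3 with h4 | h4
    · exact Or.inl h4
    · exact Or.inr (sub_eq_zero.mp h4)
  have h3 : Fintype.card F ≤ 2 := by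
    classical
    have h4 : (Finset.univ : Finset F) ⊆ {0, 1} := by
      intro x _
      rcases h2 x with h | h <;> simp [h]
    calc Fintype.card F = (Finset.univ : Finset F).card := rfl
      _ ≤ ({0, 1} : Finset F).card := Finset.card_le_card h4
      _ ≤ 2 := Finset.card_le_two
  rw [hF] at h3
  have h5 : 2 ^ 3 ≤ 2 ^ (2 * m + 1) := Nat.pow_le_pow_right (by norm_num) (by omega)
  omega

/-- The Sylow 2-subgroups of the Suzuki groups. -/
theorem shape_sz {F : Type*} [Field F] [Fintype F] {m : ℕ} (hm : 1 ≤ m)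
    (hF : Fintype.card F = 2 ^ (2 * m + 1)) (S : Sylow 2 ↥(Cfsg.Lie.Sz F (2 ^ (m + 1)))) :
    Shape (S : Subgroup ↥(Cfsg.Lie.Sz F (2 ^ (m + 1)))) ((2 ^ (2 * m + 1)) ^ 2)
      (2 ^ (2 * m + 1)) := by
  have H := SzMatrix.good hF
  obtain ⟨c, hc⟩ := exists_theta_ne hm hF
  have h1 := shape_unip H hc
  have hcF : Nat.card F = 2 ^ (2 * m + 1) := by rw [Nat.card_eq_fintype_card, hF]
  rw [hcF] at h1
  have hfin : Finite ↥(Cfsg.Lie.Sz F (2 ^ (m + 1))) := inferInstance
  have D := Cfsg.Agent.S1163.data_sz H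
  have hcu : Nat.card H.unip = (2 ^ (2 * m + 1)) ^ 2 := by rw [H.card_unip, hcF]
  have hcb : Nat.card H.borel = (2 ^ (2 * m + 1)) ^ 2 * (2 ^ (2 * m + 1) - 1) := by
    rw [H.card_borel, hcF]
  have hidx : H.borel.index = (2 ^ (2 * m + 1)) ^ 2 + 1 := by rw [D.index, hcu]
  have hcard : Nat.card ↥(Cfsg.Lie.Sz F (2 ^ (m + 1))) =
      (2 ^ (2 * m + 1)) ^ 2 * (2 ^ (2 * m + 1) - 1) * ((2 ^ (2 * m + 1)) ^ 2 + 1) := by
    rw [← Subgroup.card_mul_index H.borel, hcb, hidx]
  have hodd : ¬ 2 ∣ (2 ^ (2 * m + 1) - 1) * ((2 ^ (2 * m + 1)) ^ 2 + 1) := by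
    intro h
    rcases (Nat.Prime.dvd_mul Nat.prime_two).mp h with h | h
    · have h1 : 1 ≤ 2 ^ (2 * m + 1) := Nat.one_le_two_pow
      have h2 : 2 ∣ 2 ^ (2 * m + 1) := dvd_pow_self 2 (by omega)
      omega
    · have h2 : 2 ∣ (2 ^ (2 * m + 1)) ^ 2 := dvd_pow (dvd_pow_self 2 (by omega)) (by omega)
      omega
  have hpg : IsPGroup 2 H.unip := by
    apply IsPGroup.of_card (n := (2 * m + 1) * 2)
    rw [hcu, ← pow_mul]
  have hidxS : ¬ 2 ∣ H.unip.index := by
    have h1 := Subgroup.card_mul_index H.unip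
    rw [hcard, hcu, mul_assoc] at h1
    have h2 := Nat.eq_of_mul_eq_mul_left (by positivity) h1
    rw [h2]
    exact hodd
  have : Fact (Nat.Prime 2) := ⟨Nat.prime_two⟩
  have e : (H.unip) ≃* (S : Subgroup ↥(Cfsg.Lie.Sz F (2 ^ (m + 1)))) :=
    (Sylow.equiv (hpg.toSylow hidxS) S)
  exact Shape.congr e h1

end Cfsg.Agent.TypeUSz.Inv
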